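import Groth.Agent.SemiAmple14.Sections

/-!
# Globally generated modules with nonzero top degree on a subvariety

If `M` is globally generated and `(M^m · closure z) ≠ 0` then `m + 1` sections of `M` have independent monomials at
`z`; also globally generated modules, hence semi-ample ones, are nef.
-/

set_option autoImplicit false
set_option linter.style.haveILetI false
set_option linter.unusedSectionVars false
set_option backward.isDefEq.respectTransparency.types false

universe u

open CategoryTheory CategoryTheory.Limits AlgebraicGeometry TopologicalSpace Opposite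
open Groth.Agent.Coherent Groth.Agent.PicLib Groth.Agent.AmpleLib Groth.Agent.EulerLib Groth.Agent.VarietyLib
open Groth.Agent.H0Growth23
open Groth.Agent.AssSch12 (clM clI)

noncomputable section

namespace Groth.Agent.SemiAmple14

variable (k : Type u) [Field k] {X : Scheme.{u}} [X.Over (Spec (CommRingCat.of k))]
  [IsProper (X ↘ Spec (CommRingCat.of k))]

/-- A nonzero top intersection number is seen on some top dimensional point of the support. -/
theorem exists_point_of_ne (a : InvCl X) (j : ℕ) {F : X.Modules} (hF : Coh.IsCoh F)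
    (hd : topologicalKrullDim (CohB1.support F) ≤ (j : WithBot ℕ∞))
    (h : (dOp a ^ j) (chiCl k F) 1 ≠ 0) :
    ∃ z ∈ CohB1.support F, topologicalKrullDim (closure ({z} : Set X)) = (j : WithBot ℕ∞) ∧
      (dOp a ^ j) (chiCl k (clM z)) 1 ≠ 0 := by
  classical
  haveI := isNoetherian_of_proper (X := X) k
  by_contra hne
  push Not at hne
  refine h ?_
  have hT := isClosed_support F (locallyFinGen_of_isFT F hF.2)
  let S := (finite_top_points hT hd).toFinset
  rw [eq_sum_mult (ψ := fun N => (dOp a ^ j) (chiCl k N) 1) (d := j)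
    (fun {N N'} e => by rw [chiCl_congr k e])
    (fun T hT h₁ h₂ h₃ => by rw [chiCl_additive k T hT h₁ h₂ h₃, map_add, Pi.add_apply])
    (fun N hN hlt => by
      rw [← interDeg_const]
      exact interDeg_eq_zero _ (finDeg_chiCl k hN hlt))
    hF hd S (fun z hz h => (Set.Finite.mem_toFinset _).2 ⟨hz, h⟩)
    (fun z hz => ((Set.Finite.mem_toFinset _).1 hz).2)]
  exact Finset.sum_eq_zero fun z hz => by
    rw [hne z ((Set.Finite.mem_toFinset _).1 hz).1 ((Set.Finite.mem_toFinset _).1 hz).2, smul_zero]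

variable {M : X.Modules} (hM : PicF.IsInvertible M)

include hM in
theorem exists_cut_dim {z : X} {j : ℕ}
    (hz : topologicalKrullDim (closure ({z} : Set X)) = ((j + 1 : ℕ) : WithBot ℕ∞))
    {b : Γ(M, ⊤)} (hzb : z ∈ glocus M b) :
    ∃ Q : X.Modules, Coh.IsCoh Q ∧ CohB1.support Q ⊆ closure {z} ∩ (glocus M b : Set X)ᶜ ∧
      topologicalKrullDim (CohB1.support Q) ≤ (j : WithBot ℕ∞) ∧
      dOp (InvCl.mk M hM) (chiCl k (clM z)) = chiCl k Q := by
  haveI := isNoetherian_of_proper (X := X) k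
  obtain ⟨Q, hQ, hQs, hfun⟩ := AbCubeLib.exists_cut k (y := z) hM b hzb
  exact ⟨Q, hQ, hQs, le_of_lt_natCast_succ (dim_lt_of_notMem (isClosed_support Q (locallyFinGen_of_isFT Q hQ.2))
    (hQs.trans Set.inter_subset_left) isClosed_closure rfl (fun h => (hQs h).2 hzb) hz.le),
    (dOp_apply _ _).trans hfun⟩

include hM in
/-- Nonzero top self intersection on `closure z` gives independent sections at `z`. -/
theorem exists_indep (hgg : Curv2.IsGloballyGenerated M) :
    ∀ (m : ℕ) (z : X), topologicalKrullDim (closure ({z} : Set X)) = (m : WithBot ℕ∞) →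
      (dOp (InvCl.mk M hM) ^ m) (chiCl k (clM z)) 1 ≠ 0 → ∃ s : Fin (m + 1) → Γ(M, ⊤), Indep k z s := by
  intro m
  induction m with
  | zero =>
    intro z _ _
    obtain ⟨b, hb⟩ := NumTriv23.exists_mem_glocus_of_gg hM hgg z
    exact ⟨_, indep_zero k hM hb⟩
  | succ m ih =>
    intro z hz hne
    obtain ⟨b, hb⟩ := NumTriv23.exists_mem_glocus_of_gg hM hgg z
    obtain ⟨Q, hQ, hQs, hQd, hfun⟩ := exists_cut_dim k hM hz hb
    rw [pow_apply_succ, hfun] at hne
    obtain ⟨z₁, hz₁Q, hz₁d, hz₁⟩ := exists_point_of_ne k _ m hQ hQd hne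
    obtain ⟨t, ht⟩ := ih z₁ hz₁d hz₁
    exact ⟨_, indep_cons k (specializes_iff_mem_closure.2 (hQs hz₁Q).1) hb (hQs hz₁Q).2 ht⟩

include hM in
/-- Globally generated invertible modules are nef. -/
theorem nefCl_of_gg (hgg : Curv2.IsGloballyGenerated M) : NefCl k (InvCl.mk M hM) := by
  haveI := isNoetherian_of_proper (X := X) k
  intro z hz
  obtain ⟨b, hb⟩ := NumTriv23.exists_mem_glocus_of_gg hM hgg z
  obtain ⟨Q, hQ, -, hQd, hfun⟩ := exists_cut_dim k hM (j := 0) hz hb
  rw [interDeg_const, pow_one, hfun]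
  have h := mono_nonneg_of_points k (InvCl.mk M hM) (InvCl.mk M hM) 0 0 hQ hQd fun y hy => by
    rw [pow_zero, mul_one, Module.End.one_apply]
    have h1 := interDeg_pos k 0 (fun i => i.elim0) (fun i => i.elim0) _ (isCoh_clM y) (by rw [support_clM]; exact hy.trans (by norm_num))
    rw [interDeg_zero] at h1
    exact h1.le
  simpa using h

omit hM in
/-- Scaling the class scales its top power. -/
theorem dOp_pow_pow (a : InvCl X) (e : ℕ) : ∀ (r : ℕ) {φ : InvCl X → ℤ}, ClDeg (r + 1) φ →
    (dOp (a ^ e) ^ r) φ = ((e : ℤ) ^ r) • (dOp a ^ r) φ := by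
  intro r
  induction r with
  | zero => intro φ _; simp
  | succ r ih =>
    intro φ h
    rw [pow_apply_succ, pow_apply_succ, ih (ClDeg.dOp (r := r + 1) h _)]
    have := mono_dOp_pow a a a 0 r (φ := φ) (by rwa [zero_add]) e
    rw [pow_zero, mul_one] at this
    rw [this, smul_smul, pow_succ]

omit hM in
theorem nefCl_of_semiample {L : X.Modules} (hL : PicF.IsInvertible L) {μ : ℕ} (hμ : 0 < μ)
    (hgg : Curv2.IsGloballyGenerated (CohB1.tensorPow L μ)) : NefCl k (InvCl.mk L hL) := by
  haveI := isNoetherian_of_proper (X := X) k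
  have h := nefCl_of_gg k (isInvertible_tensorPow hL μ) hgg
  intro z hz
  have h1 := h z hz
  rw [InvCl.mk_tensorPow hL, interDeg_const, dOp_pow_pow _ μ 1
    (clDeg_chiCl k (isCoh_clM z) (r := 1) (by rw [support_clM, hz])), Pi.smul_apply, smul_eq_mul] at h1
  rw [interDeg_const]
  exact nonneg_of_mul_nonneg_right h1 (by positivity)

omit hM in
/-- A semi-ample module with a nonzero `m`-th power on some subvariety has `h⁰` growing like `μ^m`. -/
theorem exists_growth {L : X.Modules} (hL : PicF.IsInvertible L) {μ₀ : ℕ} (hμ₀ : 0 < μ₀)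
    (hgg : Curv2.IsGloballyGenerated (CohB1.tensorPow L μ₀)) {m : ℕ} {F : X.Modules} (hF : Coh.IsCoh F)
    (hd : topologicalKrullDim (CohB1.support F) ≤ (m : WithBot ℕ∞))
    (hne : (dOp (InvCl.mk L hL) ^ m) (chiCl k F) 1 ≠ 0) :
    ∃ ν a : ℕ, 0 < ν ∧ 0 < a ∧ ∀ μ : ℕ, 1 ≤ μ →
      μ ^ m ≤ a * Module.finrank k (Coh.HH X (CohB1.tensorPow L (ν * μ)) 0) := by
  haveI := isNoetherian_of_proper (X := X) k
  obtain ⟨z, -, hzd, hz⟩ := exists_point_of_ne k _ m hF hd hne
  have hP := isInvertible_tensorPow hL μ₀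
  have hz' : (dOp (InvCl.mk _ hP) ^ m) (chiCl k (clM z)) 1 ≠ 0 := by
    rw [InvCl.mk_tensorPow hL, dOp_pow_pow _ μ₀ m
      (clDeg_chiCl k (isCoh_clM z) (r := m) (by rw [support_clM, hzd])), Pi.smul_apply, smul_eq_mul]
    exact mul_ne_zero (pow_ne_zero _ (by exact_mod_cast hμ₀.ne')) hz
  obtain ⟨s, hs⟩ := exists_indep k hP hgg m z hzd hz'
  refine ⟨μ₀ * (m + 1), 1, Nat.mul_pos hμ₀ m.succ_pos, one_pos, fun μ _ => ?_⟩
  obtain ⟨e, -⟩ := exists_powPowIso hL μ₀ ((m + 1) * μ)
  rw [one_mul, mul_assoc]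
  exact (Nat.pow_le_pow_left μ.le_succ m).trans
    ((pow_le_finrank k hP hs μ).trans_eq (CurveRR24.finrank_HH_congr k e 0))

end Groth.Agent.SemiAmple14

end
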