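import Groth.Agent.VarietyLib.NefGrowth
import Groth.Agent.CurveRR24.Sky
import Groth.Agent.AmpleLib.Power

/-!
# Sections whose monomials are linearly independent at a point

`Indep k M z s`: in a local frame, the values at `z` of the sections `s i` have linearly independent monomials in
each degree over the base field. Independence propagates to a generisation `z` of `z₁` after adjoining a section
which vanishes at `z₁` but not at `z`, and gives a lower bound on the sections of powers.
-/

set_option autoImplicit false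
set_option linter.style.haveILetI false
set_option linter.unusedSectionVars false
set_option backward.isDefEq.respectTransparency.types false

universe u

open CategoryTheory CategoryTheory.Limits AlgebraicGeometry TopologicalSpace Opposite
open Groth.Agent.Coherent Groth.Agent.PicLib Groth.Agent.AmpleLib

noncomputable section

namespace Groth.Agent.SemiAmple14

variable (k : Type u) [Field k] {X : Scheme.{u}} [X.Over (Spec (CommRingCat.of k))]

/-- Constants on an open. -/
def cst (W : X.Opens) : k →+* Γ(X, W) := (X.presheaf.map (homOfLE le_top).op).hom.comp (baseHom k X)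

/-- Constants in a residue field. -/
def ek (x : X) : k →+* X.residueField x := (X.evaluation ⊤ x trivial).hom.comp (baseHom k X)

theorem evaluation_cst (W : X.Opens) (x : X) (hx : x ∈ W) (c : k) :
    X.evaluation W x hx (cst k W c) = ek k x c := by
  show X.residue x (X.presheaf.germ W x hx (X.presheaf.map (homOfLE le_top).op (baseHom k X c))) =
    X.residue x (X.presheaf.germ ⊤ x trivial (baseHom k X c))
  rw [TopCat.Presheaf.germ_res_apply]

/-- Vanishing at a generisation implies vanishing at the point. -/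
theorem evaluation_eq_zero_of_specializes {W : X.Opens} {z z₁ : X} (h : z ⤳ z₁) (hz₁ : z₁ ∈ W) (f : Γ(X, W))
    (hf : X.evaluation W z (h.mem_open W.2 hz₁) f = 0) : X.evaluation W z₁ hz₁ f = 0 := by
  rw [Scheme.evaluation_eq_zero_iff_notMem_basicOpen] at hf ⊢
  exact fun h1 => hf (h.mem_open (X.basicOpen f).2 h1)

variable {M : X.Modules}

/-- In a local frame the values at `z` have independent monomials. -/
def Indep {m : ℕ} (z : X) (s : Fin (m + 1) → Γ(M, ⊤)) : Prop :=
  ∃ (W : X.Opens) (hz : z ∈ W) (g : Γ(M, W)) (hg : IsGen M W g),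
    ∀ (d : ℕ) (S : Finset (Fin (m + 1) → ℕ)) (c : (Fin (m + 1) → ℕ) → k), (∀ α ∈ S, ∑ i, α i = d) →
      ∑ α ∈ S, ek k z (c α) * ∏ i, X.evaluation W z hz (hg.coef le_rfl (resM M le_top (s i))) ^ α i = 0 →
        ∀ α ∈ S, c α = 0

/-- The value of the frame coordinate is nonzero exactly on the locus. -/
theorem evaluation_coef_ne_zero_iff {W : X.Opens} {g : Γ(M, W)} (hg : IsGen M W g) {z : X} (hz : z ∈ W)
    (b : Γ(M, ⊤)) :
    X.evaluation W z hz (hg.coef le_rfl (resM M le_top b)) ≠ 0 ↔ z ∈ glocus M b := by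
  rw [Scheme.evaluation_ne_zero_iff_mem_basicOpen, ← glocus_inf b hg]
  exact ⟨fun h => h.1, fun h => ⟨h, hz⟩⟩

theorem indep_zero (hM : PicF.IsInvertible M) {z : X} {b : Γ(M, ⊤)} (hb : z ∈ glocus M b) :
    Indep k z (m := 0) (fun _ => b) := by
  obtain ⟨W, hz, g, hg⟩ := exists_isGen hM z
  refine ⟨W, hz, g, hg, fun d S c hS h α hα => ?_⟩
  have hα' : ∀ β ∈ S, β = α := fun β hβ => funext fun i => by
    have h1 := hS β hβ
    have h2 := hS α hα
    rw [Fin.sum_univ_one] at h1 h2
    rw [Fin.eq_zero i, h1, h2]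
  rw [Finset.sum_eq_single α (fun β hβ hne => absurd (hα' β hβ) hne) (fun h' => absurd hα h')] at h
  refine (ek k z).injective (((mul_eq_zero.1 h).resolve_right ?_).trans (map_zero _).symm)
  exact Finset.prod_ne_zero_iff.2 fun i _ => pow_ne_zero _ ((evaluation_coef_ne_zero_iff hg hz b).2 hb)

theorem indep_cons {m : ℕ} {z z₁ : X} (hzz : z ⤳ z₁) {b : Γ(M, ⊤)} (hb : z ∈ glocus M b)
    (hb₁ : z₁ ∉ glocus M b) {t : Fin (m + 1) → Γ(M, ⊤)} (ht : Indep k z₁ t) :
    Indep k z (Fin.cons b t : Fin (m + 2) → Γ(M, ⊤)) := by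
  classical
  obtain ⟨W, hz₁, g, hg, hind⟩ := ht
  have hz : z ∈ W := hzz.mem_open W.2 hz₁
  let s : Fin (m + 2) → Γ(M, ⊤) := Fin.cons b t
  let u : Fin (m + 2) → Γ(X, W) := fun i => hg.coef le_rfl (resM M le_top (s i))
  have hu0 : X.evaluation W z hz (u 0) ≠ 0 := (evaluation_coef_ne_zero_iff hg hz b).2 hb
  have hu1 : X.evaluation W z₁ hz₁ (u 0) = 0 := not_not.1 fun h => hb₁ ((evaluation_coef_ne_zero_iff hg hz₁ b).1 h)
  refine ⟨W, hz, g, hg, fun d => ?_⟩
  induction d using Nat.strong_induction_on with
  | _ d ih =>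
    intro S c hS h
    replace h : ∑ α ∈ S, ek k z (c α) * ∏ i, X.evaluation W z hz (u i) ^ α i = 0 := h
    -- at the special point only the monomials without the first variable survive
    let q : Γ(X, W) := ∑ α ∈ S, cst k W (c α) * ∏ i, u i ^ α i
    have hq : X.evaluation W z hz q = 0 := by
      rw [map_sum, ← h]
      refine Finset.sum_congr rfl fun α _ => ?_
      rw [map_mul, map_prod, evaluation_cst]
      simp only [map_pow]
    have hq₁ := evaluation_eq_zero_of_specializes hzz hz₁ q hq
    rw [map_sum] at hq₁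
    let S₀ := S.filter (fun α => α 0 = 0)
    have hinj : ∀ α ∈ S₀, ∀ β ∈ S₀, Fin.tail α = Fin.tail β → α = β := fun α hα β hβ he => by
      rw [← Fin.cons_self_tail α, ← Fin.cons_self_tail β, he,
        (Finset.mem_filter.1 hα).2, (Finset.mem_filter.1 hβ).2]
    have h0 : ∀ α ∈ S₀, c α = 0 := by
      have key := hind d (S₀.image Fin.tail) (fun β => c (Fin.cons 0 β)) (fun β hβ => by
        obtain ⟨α, hα, rfl⟩ := Finset.mem_image.1 hβ
        have h1 := hS α (Finset.mem_filter.1 hα).1
        rw [Fin.sum_univ_succ (n := m + 1), (Finset.mem_filter.1 hα).2, zero_add] at h1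
        exact h1) (by
        rw [Finset.sum_image hinj]
        refine Eq.trans ?_ hq₁
        rw [Finset.sum_filter]
        refine Finset.sum_congr rfl fun α _ => ?_
        rw [map_mul, map_prod, evaluation_cst, Fin.prod_univ_succ (n := m + 1)]
        simp only [map_pow]
        by_cases hα : α 0 = 0
        · rw [if_pos hα, hα, pow_zero, one_mul]
          rw [show (Fin.cons 0 (Fin.tail α) : Fin (m + 2) → ℕ) = α by rw [← hα, Fin.cons_self_tail]]
          rfl
        · rw [if_neg hα, hu1, zero_pow hα, zero_mul, mul_zero])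
      intro α hα
      have := key _ (Finset.mem_image_of_mem _ hα)
      rwa [show (Fin.cons 0 (Fin.tail α) : Fin (m + 2) → ℕ) = α by
        rw [← (Finset.mem_filter.1 hα).2, Fin.cons_self_tail]] at this
    -- the remaining monomials are divisible by the first variable
    intro α hα
    by_cases hα0 : α 0 = 0
    · exact h0 α (Finset.mem_filter.2 ⟨hα, hα0⟩)
    let S₁ := S.filter (fun α => α 0 ≠ 0)
    let dec : (Fin (m + 2) → ℕ) → Fin (m + 2) → ℕ := fun α => Function.update α 0 (α 0 - 1)
    let inc : (Fin (m + 2) → ℕ) → Fin (m + 2) → ℕ := fun β => Function.update β 0 (β 0 + 1)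
    have hid : ∀ α ∈ S₁, inc (dec α) = α := fun α hα => by
      have h1 := (Finset.mem_filter.1 hα).2
      simp only [inc, dec, Function.update_self, Function.update_idem]
      rw [Nat.sub_add_cancel (Nat.one_le_iff_ne_zero.2 h1), Function.update_eq_self]
    have hinj₁ : ∀ α ∈ S₁, ∀ β ∈ S₁, dec α = dec β → α = β := fun α hα β hβ he => by
      rw [← hid α hα, ← hid β hβ, he]
    have hsum : ∀ α ∈ S₁, ∑ i, dec α i + 1 = d := fun α hα => by
      have h1 := hS α (Finset.mem_filter.1 hα).1
      have h2 := (Finset.mem_filter.1 hα).2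
      rw [← h1, Fin.sum_univ_succ (n := m + 1), Fin.sum_univ_succ (n := m + 1)]
      simp only [dec, Function.update_self, Function.update_of_ne (Fin.succ_ne_zero _)]
      omega
    have hmem : α ∈ S₁ := Finset.mem_filter.2 ⟨hα, hα0⟩
    have key := ih (d - 1) (by have := hsum α hmem; omega) (S₁.image dec) (fun β => c (inc β)) (fun β hβ => by
        obtain ⟨γ, hγ, rfl⟩ := Finset.mem_image.1 hβ
        exact Nat.eq_sub_of_add_eq (hsum γ hγ)) (by
        refine (mul_eq_zero.1 ?_).resolve_left hu0
        show X.evaluation W z hz (u 0) * ∑ β ∈ S₁.image dec,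
          ek k z (c (inc β)) * ∏ i, X.evaluation W z hz (u i) ^ β i = 0
        rw [Finset.sum_image hinj₁, Finset.mul_sum]
        have hsplit := (Finset.sum_filter_add_sum_filter_not S (fun α => α 0 = 0)
          (fun α => ek k z (c α) * ∏ i, X.evaluation W z hz (u i) ^ α i)).trans h
        rw [Finset.sum_eq_zero (s := S.filter _) (fun γ hγ => by rw [h0 γ hγ, map_zero, zero_mul]), zero_add] at hsplit
        refine Eq.trans ?_ hsplit
        refine Finset.sum_congr rfl fun γ hγ => ?_
        rw [hid γ hγ, mul_left_comm]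
        refine congrArg (ek k z (c γ) * ·) ?_
        rw [Fin.prod_univ_succ (n := m + 1), Fin.prod_univ_succ (n := m + 1), ← mul_assoc]
        simp only [dec, Function.update_self, Function.update_of_ne (Fin.succ_ne_zero _)]
        rw [← pow_succ', Nat.sub_add_cancel (Nat.one_le_iff_ne_zero.2 (Finset.mem_filter.1 hγ).2)])
    have := key (dec α) (Finset.mem_image_of_mem _ hmem)
    rwa [hid α hmem] at this

/-- The product of a family of sections. -/
def prodSec : ∀ d : ℕ, (Fin d → Γ(M, ⊤)) → Γ(CohB1.tensorPow M d, ⊤)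
  | 0, _ => oneSec ⊤
  | d + 1, f => tmul (prodSec d fun i => f i.castSucc) (f (Fin.last d))

theorem resM_prodSec {W : X.Opens} {g : Γ(M, W)} (hg : IsGen M W g) :
    ∀ (d : ℕ) (f : Fin d → Γ(M, ⊤)), resM (CohB1.tensorPow M d) le_top (prodSec d f) =
      (∏ i, hg.coef le_rfl (resM M le_top (f i))) • powSec g d
  | 0, f => by
    rw [Fin.prod_univ_zero, one_smul]
    exact resM_oneSec _
  | d + 1, f => by
    refine (resM_tmul _ _ _).trans ?_
    rw [resM_prodSec hg d]
    have h1 := hg.coef_spec le_rfl (resM M le_top (f (Fin.last d)))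
    rw [resM_self] at h1
    rw [Fin.prod_univ_castSucc]
    conv_lhs => rw [← h1]
    exact tmul_smul_smul _ _ _ _

/-- Independent sections bound the sections of the powers below. -/
theorem pow_le_finrank {m : ℕ} [IsProper (X ↘ Spec (CommRingCat.of k))] (hM : PicF.IsInvertible M) {z : X}
    {s : Fin (m + 1) → Γ(M, ⊤)} (hs : Indep k z s) (μ : ℕ) :
    (μ + 1) ^ m ≤ Module.finrank k (Coh.HH X (CohB1.tensorPow M ((m + 1) * μ)) 0) := by
  classical
  obtain ⟨W, hz, g, hg, hind⟩ := hs
  set D := (m + 1) * μ
  let ex : (Fin m → Fin (μ + 1)) → Fin (m + 1) → ℕ := fun β =>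
    Fin.cons (D - ∑ i, (β i : ℕ)) fun i => (β i : ℕ)
  have hex : Function.Injective ex := fun β γ h => funext fun i => Fin.ext (by
    simpa [ex] using congrFun h i.succ)
  have hexd : ∀ β, ∑ i, ex β i = D := fun β => by
    have h1 : ∑ i, (β i : ℕ) ≤ D := (Finset.sum_le_sum fun i _ => Nat.le_of_lt_succ (β i).2).trans (by
      simp only [Finset.sum_const, Finset.card_univ, Fintype.card_fin, smul_eq_mul, D]
      exact Nat.mul_le_mul_right _ (Nat.le_succ m))
    rw [Fin.sum_univ_succ]
    simp only [ex, Fin.cons_zero, Fin.cons_succ]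
    omega
  have hword : ∀ β, ∃ w : Fin D → Fin (m + 1), ∀ (R : Type u) [CommRing R] (v : Fin (m + 1) → R),
      ∏ i, v (w i) = ∏ j, v j ^ ex β j := fun β => by
    let e : (Σ j : Fin (m + 1), Fin (ex β j)) ≃ Fin D := finSigmaFinEquiv.trans (finCongr (hexd β))
    refine ⟨fun i => (e.symm i).1, fun R _ v => ?_⟩
    rw [← e.prod_comp]
    simp only [Equiv.symm_apply_apply]
    rw [Fintype.prod_sigma]
    simp
  choose w hw using hword
  let σ : (Fin m → Fin (μ + 1)) → GA (baseHom k X) (CohB1.tensorPow M D) := fun β =>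
    prodSec D fun i => s (w β i)
  have hli : LinearIndependent k σ := by
    refine Fintype.linearIndependent_iff.2 fun c hc β => ?_
    let u : Fin (m + 1) → Γ(X, W) := fun i => hg.coef le_rfl (resM M le_top (s i))
    have h1 : (∑ γ, cst k W (c γ) * ∏ j, u j ^ ex γ j) • powSec g D = 0 := by
      have h2 := congrArg (fun x : GA (baseHom k X) (CohB1.tensorPow M D) =>
        resM (CohB1.tensorPow M D) (le_top : W ≤ ⊤) (show Γ(CohB1.tensorPow M D, ⊤) from x)) hc
      refine Eq.trans ?_ (h2.trans (map_zero _))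
      rw [Finset.sum_smul]
      refine Eq.trans ?_ (map_sum (resM (CohB1.tensorPow M D) (le_top : W ≤ ⊤))
        (fun γ => (show Γ(CohB1.tensorPow M D, ⊤) from c γ • σ γ)) Finset.univ).symm
      refine Finset.sum_congr rfl fun γ _ => ?_
      refine Eq.trans ?_ (resM_smul (CohB1.tensorPow M D) (le_top : W ≤ ⊤) (baseHom k X (c γ))
        (prodSec D fun i => s (w γ i))).symm
      rw [resM_prodSec hg D, ← hw γ Γ(X, W) u, ← mul_smul]
      rfl
    have h3 : (∑ γ, cst k W (c γ) * ∏ j, u j ^ ex γ j) = 0 := by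
      have hb := (isGen_powSec hg D W le_rfl).1
      refine hb ?_
      show _ • resM _ _ (powSec g D) = (0 : Γ(X, W)) • resM _ _ (powSec g D)
      rw [resM_self, zero_smul]
      exact h1
    have h4 := congrArg (X.evaluation W z hz) h3
    rw [map_zero, map_sum] at h4
    have key := hind D (Finset.univ.image ex) (fun α => if hα : ∃ γ, ex γ = α then c hα.choose else 0)
      (fun α hα => by
        obtain ⟨γ, -, rfl⟩ := Finset.mem_image.1 hα
        exact hexd γ) (by
      rw [Finset.sum_image fun a _ b _ h => hex h]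
      refine Eq.trans ?_ h4
      refine Finset.sum_congr rfl fun γ _ => ?_
      rw [map_mul, map_prod, evaluation_cst, dif_pos ⟨γ, rfl⟩,
        hex (Exists.choose_spec (p := fun δ => ex δ = ex γ) ⟨γ, rfl⟩)]
      simp only [map_pow]
      rfl)
    have := key (ex β) (Finset.mem_image_of_mem _ (Finset.mem_univ β))
    rwa [dif_pos ⟨β, rfl⟩, hex (Exists.choose_spec (p := fun δ => ex δ = ex β) ⟨β, rfl⟩)] at this
  haveI := EulerLib.isNoetherian_of_proper (X := X) k
  haveI : Coh.IsQCoh (CohB1.tensorPow M D) :=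
    (CurveRR24.isCoh_of_isInvertible k (AmpleLib.isInvertible_tensorPow hM D)).1
  have e := CurveRR24.hhZero k (CohB1.tensorPow M D)
  haveI : Module.Finite k (Coh.HH X (CohB1.tensorPow M D) 0) :=
    finite_HH (CurveRR24.isCoh_of_isInvertible k (AmpleLib.isInvertible_tensorPow hM D)) 0
  haveI : Module.Finite k (GA (baseHom k X) (CohB1.tensorPow M D)) := Module.Finite.equiv e
  have h := hli.fintype_card_le_finrank
  rw [← e.finrank_eq] at h
  simpa using h

end Groth.Agent.SemiAmple14

end
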